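import Cfsg.Agent.H65.Ore.Split

/-!
# Products of two classes: the ratio form with a self-centralizing exact prime (helper843)

`x` of order `p`, `|C(x)| = p`, `p` exact, `e = |N(⟨x⟩) : ⟨x⟩|`, `e t = p - 1`; `y`, `g` of order prime to `p`,
`|χ(y)| ≤ 1` for all `χ`. The structure constant of `(x, y, g)` is
`∑_{NE} ε χ(y) conj χ(g) / χ(1) - d Θ(y) conj Θ(g) / Θ(1)` and `∑_{NE} ε χ(y) = d Θ(y)`. So it is not zero if there are
real numbers `c`, `h` with `|χ(g) - c χ(1)| ≤ h χ(1)` for all `χ ≠ 1` of degree prime to `p` and `e h + c < 1`.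

* `Pack G p e NE X ε d` : the data; `exists_pack` : the constructor; `Pack.prd` : the theorem.
-/

set_option autoImplicit false

namespace Cfsg.Agent.H843.TCM

open Cfsg Cfsg.Agent.Characters Subgroup
open Cfsg.Agent.H65.Ore
open scoped ComplexConjugate

universe u

variable {G : Type u} [Group G]

/-- The principal block of a self-centralizing exact prime, with signs. -/
structure Pack (G : Type u) [Group G] (p e : ℕ) (NE X : Finset (IrrCharacter G)) (ε : IrrCharacter G → ℤ) (d : ℤ) :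
    Prop where
  disj : Disjoint NE X
  cardNE : NE.card = e
  ne_X : X.Nonempty
  one_mem : one1 G ∈ NE
  one_eps : ε (one1 G) = 1
  eps : ∀ χ ∈ NE, ε χ = 1 ∨ ε χ = -1
  d_eps : d = 1 ∨ d = -1
  ne_val : ∀ χ ∈ NE, ∀ x : G, orderOf x = p → (χ : G → ℂ) x = ε χ
  reg : ∀ Θ ∈ X, ∀ g : G, ¬ p ∣ orderOf g → ∑ χ ∈ NE, (ε χ : ℂ) * (χ : G → ℂ) g = d * (Θ : G → ℂ) g
  off : ∀ χ : IrrCharacter G, χ ∉ NE → χ ∉ X → ∀ x : G, orderOf x = p → (χ : G → ℂ) x = 0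
  ndvd : ∀ χ : IrrCharacter G, χ ∈ NE ∨ χ ∈ X → ¬ p ∣ charDegree (χ : G → ℂ)

variable [Finite G]

/-- **The constructor.** -/
theorem exists_pack [IsSimpleGroup G] (hG : ¬ IsMulCommutative G) {p : ℕ} (hp : p.Prime) {N : ℕ}
    (hN : Nat.card G = N) {x : G} (hx : orderOf x = p) (hc : Nat.card (centralizer ({x} : Set G)) = p)
    (e t S : ℕ) (hnum : chkSC N p e t S = true) :
    ∃ (NE X : Finset (IrrCharacter G)) (ε : IrrCharacter G → ℤ) (d : ℤ), Pack G p e NE X ε d := by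
  classical
  have : Fact p.Prime := ⟨hp⟩
  have hp1 := hp.two_le
  obtain ⟨hp2, ht, -, he0, P, hP, hC, hrel, hconj⟩ := setup hG hp hN hx hc e t S hnum
  obtain ⟨NE, X, ε, d, T, hdis, hNE, hX, hε, hd, hone, hv, hvX, hXd, hreg, hz⟩ :=
    SmallSimple.TheoremBCor.theoremB_selfCent p hp2 P hP hC e t hrel ht
  have hmove : ∀ y : G, orderOf y = p → ∃ z ∈ P, z ≠ 1 ∧ ∀ χ : IrrCharacter G, (χ : G → ℂ) y = (χ : G → ℂ) z := by
    intro y hy
    obtain ⟨z, hz, hz1, hyz⟩ := hconj y hy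
    refine ⟨z, hz, hz1, fun χ => ?_⟩
    obtain ⟨g, rfl⟩ := isConj_iff.1 hyz
    exact (Core.isIrr_isClassFunction χ.2 y g).symm
  have hep : e < p := by
    have h1 : e ≤ p - 1 := Nat.le_of_dvd (by omega) ⟨t, ht.symm⟩
    omega
  have hpn : ∀ {n : ℕ} {a m : ℤ}, (n : ℂ) = ((a + p * m : ℤ) : ℂ) → (p : ℤ) ∣ (n : ℤ) - a := by
    intro n a m h
    have h2 : (n : ℤ) = a + p * m := by exact_mod_cast h
    exact ⟨m, by rw [h2]; ring⟩
  refine ⟨NE, X, ε, d, hdis, hNE, ?_, ?_, ?_, hε, hd, ?_, hreg, ?_, ?_⟩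
  · rw [← Finset.card_pos, hX]
    rcases Nat.eq_zero_or_pos t with h | h
    · rw [h, mul_zero] at ht
      omega
    · exact h
  · obtain ⟨χ, hχ, hχ1, -⟩ := hone
    have : χ = one1 G := Subtype.ext hχ1
    rwa [← this]
  · obtain ⟨χ, hχ, hχ1, h⟩ := hone
    have : χ = one1 G := Subtype.ext hχ1
    rwa [← this]
  · intro χ hχ y hy
    obtain ⟨z, hz, hz1, h⟩ := hmove y hy
    rw [h χ, hv χ hχ z hz hz1]
  · intro χ h1 h2 y hy
    obtain ⟨z, hzP, hz1, h⟩ := hmove y hy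
    rw [h χ]
    exact (hz χ h1 h2).1 z hzP hz1
  · intro χ hχ
    rcases hχ with hχ | hχ
    · obtain ⟨m, hm⟩ := SmallSimple.TheoremBCor.degree_nonexc (P := (P : Subgroup G)) hP
        (Core.isIrr_isCharacter χ.2) (ε := ε χ) (fun y hy hy1 => hv χ hχ y hy hy1)
      rw [cast_deg] at hm
      have h3 := hpn (a := ε χ) (m := (m : ℤ) - ε χ) (by push_cast; exact_mod_cast hm)
      intro hdvd
      have h4 : (p : ℤ) ∣ (charDegree (χ : G → ℂ) : ℤ) := by exact_mod_cast hdvd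
      have h5 : (p : ℤ) ∣ ε χ := by
        have := dvd_sub h4 h3
        rwa [sub_sub_cancel] at this
      have h6 : (p : ℤ) ∣ 1 := by
        rcases hε χ hχ with h | h
        · rwa [h] at h5
        · rw [h] at h5; exact (Int.dvd_neg.1 h5)
      have h7 : p ∣ 1 := by exact_mod_cast h6
      exact hp.one_lt.ne' (Nat.dvd_one.1 h7)
    · obtain ⟨hSc, hS1, hSv⟩ := hvX χ hχ
      obtain ⟨m, hm⟩ := SmallSimple.TheoremBCor.degree_exc (P := (P : Subgroup G)) hP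
        (Core.isIrr_isCharacter χ.2) (d := d) (S := T χ) hS1 hSv
      rw [cast_deg, hSc] at hm
      have h3 := hpn (a := d * e) (m := m) (by push_cast; exact_mod_cast hm)
      intro hdvd
      have h4 : (p : ℤ) ∣ (charDegree (χ : G → ℂ) : ℤ) := by exact_mod_cast hdvd
      have h5 : (p : ℤ) ∣ d * e := by
        have := dvd_sub h4 h3
        rwa [sub_sub_cancel] at this
      have h6 : (p : ℤ) ∣ e := by
        rcases hd with h | h
        · rwa [h, one_mul] at h5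
        · rw [h, neg_one_mul] at h5; exact (Int.dvd_neg.1 h5)
      have h7 : p ∣ e := by exact_mod_cast h6
      have := Nat.le_of_dvd he0 h7
      omega

/-- `Θ(x)`, summed over the exceptional characters -/
theorem Pack.sum_X {p e : ℕ} {NE X : Finset (IrrCharacter G)} {ε : IrrCharacter G → ℤ} {d : ℤ}
    (h : Pack G p e NE X ε d) (hp : p.Prime) {x : G} (hx : orderOf x = p) :
    ∑ Θ ∈ X, (Θ : G → ℂ) x = -d := by
  classical
  have hfin : Finite (IrrCharacter G) := Core.finite_irr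
  have := Fintype.ofFinite (IrrCharacter G)
  have hx1 : x ≠ 1 := by
    rintro rfl
    rw [orderOf_one] at hx
    exact hp.one_lt.ne hx
  obtain ⟨Θ₀, h0⟩ := h.ne_X
  have h1 : ¬ p ∣ orderOf (1 : G) := by
    rw [orderOf_one]; exact fun h => hp.one_lt.ne' (Nat.dvd_one.1 h)
  have hd2 : (d : ℂ) * d = 1 := by rcases h.d_eps with h | h <;> rw [h] <;> norm_num
  have hdeg : ∀ Θ ∈ X, (Θ : G → ℂ) 1 = (Θ₀ : G → ℂ) 1 := by
    intro Θ hΘ
    have h2 := h.reg Θ hΘ 1 h1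
    rw [h.reg Θ₀ h0 1 h1] at h2
    have h3 : (d : ℂ) * (d * (Θ₀ : G → ℂ) 1) = d * (d * (Θ : G → ℂ) 1) := by rw [h2]
    rw [← mul_assoc, ← mul_assoc, hd2, one_mul, one_mul] at h3
    exact h3.symm
  have horth : ∑ χ : IrrCharacter G, (χ : G → ℂ) x * (χ : G → ℂ) 1 = 0 := by
    have h2 := H686.CharKit.col_orth x (1 : G)
    rw [if_neg (by
      intro h3
      obtain ⟨c, hc⟩ := isConj_iff.1 h3
      apply hx1
      have h4 : x = c⁻¹ * (c * x * c⁻¹) * c := by group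
      rw [h4, hc]; group)] at h2
    refine Eq.trans (Finset.sum_congr rfl fun χ _ => ?_) h2
    rw [cast_deg, Complex.conj_natCast]
  rw [← Finset.sum_subset (Finset.subset_univ (NE ∪ X)), Finset.sum_union h.disj] at horth
  · have h2 : ∑ χ ∈ NE, (χ : G → ℂ) x * (χ : G → ℂ) 1 = d * (Θ₀ : G → ℂ) 1 := by
      rw [← h.reg Θ₀ h0 1 h1]
      exact Finset.sum_congr rfl fun χ hχ => by rw [h.ne_val χ hχ x hx]
    have h3 : ∑ Θ ∈ X, (Θ : G → ℂ) x * (Θ : G → ℂ) 1 = (∑ Θ ∈ X, (Θ : G → ℂ) x) * (Θ₀ : G → ℂ) 1 := by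
      rw [Finset.sum_mul]
      exact Finset.sum_congr rfl fun Θ hΘ => by rw [hdeg Θ hΘ]
    rw [h2, h3, ← add_mul] at horth
    have h4 : (Θ₀ : G → ℂ) 1 ≠ 0 := by
      rw [cast_deg]
      exact_mod_cast charDegree_ne_zero Θ₀.2
    have h5 := (mul_eq_zero.1 horth).resolve_right h4
    linear_combination h5
  · intro χ _ hχ
    rw [Finset.mem_union, not_or] at hχ
    rw [h.off χ hχ.1 hχ.2 x hx, zero_mul]

/-- the structure constant -/
theorem Pack.sum_eq [Fintype (IrrCharacter G)] {p e : ℕ} {NE X : Finset (IrrCharacter G)} {ε : IrrCharacter G → ℤ}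
    {d : ℤ} (h : Pack G p e NE X ε d) (hp : p.Prime) {x y g : G} (hx : orderOf x = p) (hy : ¬ p ∣ orderOf y)
    (hg : ¬ p ∣ orderOf g) {Θ₀ : IrrCharacter G} (h0 : Θ₀ ∈ X) :
    ∑ χ : IrrCharacter G, (χ : G → ℂ) x * (χ : G → ℂ) y * conj ((χ : G → ℂ) g) / (χ : G → ℂ) 1 =
      ∑ χ ∈ NE, (ε χ : ℂ) * (χ : G → ℂ) y * conj ((χ : G → ℂ) g) / (χ : G → ℂ) 1 -
        d * (Θ₀ : G → ℂ) y * conj ((Θ₀ : G → ℂ) g) / (Θ₀ : G → ℂ) 1 := by
  classical
  have h1 : ¬ p ∣ orderOf (1 : G) := by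
    rw [orderOf_one]; exact fun h => hp.one_lt.ne' (Nat.dvd_one.1 h)
  have hd2 : (d : ℂ) * d = 1 := by rcases h.d_eps with h | h <;> rw [h] <;> norm_num
  have heq : ∀ Θ ∈ X, ∀ a : G, ¬ p ∣ orderOf a → (Θ : G → ℂ) a = (Θ₀ : G → ℂ) a := by
    intro Θ hΘ a ha
    have h2 := h.reg Θ hΘ a ha
    rw [h.reg Θ₀ h0 a ha] at h2
    have h3 : (d : ℂ) * (d * (Θ₀ : G → ℂ) a) = d * (d * (Θ : G → ℂ) a) := by rw [h2]
    rw [← mul_assoc, ← mul_assoc, hd2, one_mul, one_mul] at h3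
    exact h3.symm
  rw [← Finset.sum_subset (Finset.subset_univ (NE ∪ X)), Finset.sum_union h.disj]
  · have h3 : ∑ Θ ∈ X, (Θ : G → ℂ) x * (Θ : G → ℂ) y * conj ((Θ : G → ℂ) g) / (Θ : G → ℂ) 1 =
        (∑ Θ ∈ X, (Θ : G → ℂ) x) * ((Θ₀ : G → ℂ) y * conj ((Θ₀ : G → ℂ) g) / (Θ₀ : G → ℂ) 1) := by
      rw [Finset.sum_mul]
      refine Finset.sum_congr rfl fun Θ hΘ => ?_
      rw [heq Θ hΘ y hy, heq Θ hΘ g hg, heq Θ hΘ 1 h1]
      ring
    have h4 : ∑ χ ∈ NE, (χ : G → ℂ) x * (χ : G → ℂ) y * conj ((χ : G → ℂ) g) / (χ : G → ℂ) 1 =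
        ∑ χ ∈ NE, (ε χ : ℂ) * (χ : G → ℂ) y * conj ((χ : G → ℂ) g) / (χ : G → ℂ) 1 :=
      Finset.sum_congr rfl fun χ hχ => by rw [h.ne_val χ hχ x hx]
    rw [h3, h4, h.sum_X hp hx]
    ring
  · intro χ _ hχ
    rw [Finset.mem_union, not_or] at hχ
    rw [h.off χ hχ.1 hχ.2 x hx]
    simp

/-- **The ratio form.** -/
theorem Pack.prd {p e : ℕ} {NE X : Finset (IrrCharacter G)} {ε : IrrCharacter G → ℤ}
    {d : ℤ} (h : Pack G p e NE X ε d) (hp : p.Prime) {x y g : G} (hx : orderOf x = p) (hy : ¬ p ∣ orderOf y)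
    (hg : ¬ p ∣ orderOf g) (hy1 : ∀ χ : IrrCharacter G, ‖(χ : G → ℂ) y‖ ≤ 1) {c k : ℝ}
    (hr : ∀ χ : IrrCharacter G, (χ : G → ℂ) ≠ 1 → ¬ p ∣ charDegree (χ : G → ℂ) →
      ‖(χ : G → ℂ) g - c * (charDegree (χ : G → ℂ) : ℂ)‖ ≤ k * charDegree (χ : G → ℂ))
    (hck : e * k + c < 1) : Prd x y g := by
  classical
  have hfin : Finite (IrrCharacter G) := Core.finite_irr
  have := Fintype.ofFinite (IrrCharacter G)
  obtain ⟨Θ₀, h0⟩ := h.ne_X
  apply prd_of_ne_zero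
  rw [h.sum_eq hp hx hy hg h0]
  intro hz
  have hreg := h.reg Θ₀ h0 y hy
  have hdeg : ∀ χ : IrrCharacter G, (charDegree (χ : G → ℂ) : ℂ) ≠ 0 := fun χ => by
    exact_mod_cast charDegree_ne_zero χ.2
  have key : ∀ χ : IrrCharacter G, conj ((χ : G → ℂ) g) / (χ : G → ℂ) 1 =
      conj ((χ : G → ℂ) g - c * (charDegree (χ : G → ℂ) : ℂ)) / (charDegree (χ : G → ℂ) : ℂ) + c := by
    intro χ
    have := hdeg χ
    rw [cast_deg, map_sub, map_mul, Complex.conj_natCast, Complex.conj_ofReal]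
    field_simp
    ring
  set δ : IrrCharacter G → ℂ := fun χ =>
    conj ((χ : G → ℂ) g - c * (charDegree (χ : G → ℂ) : ℂ)) / (charDegree (χ : G → ℂ) : ℂ) with hδ
  have hδk : ∀ χ : IrrCharacter G, (χ : G → ℂ) ≠ 1 → ¬ p ∣ charDegree (χ : G → ℂ) → ‖δ χ‖ ≤ k := by
    intro χ h1 h2
    have h3 : (0 : ℝ) < charDegree (χ : G → ℂ) := by
      exact_mod_cast Nat.pos_of_ne_zero (charDegree_ne_zero χ.2)
    rw [hδ]
    simp only
    rw [norm_div, Complex.norm_conj, Complex.norm_natCast, div_le_iff₀ h3]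
    exact hr χ h1 h2
  -- rewrite the sum
  have hone : δ (one1 G) = 1 - c := by
    rw [hδ]
    simp only
    have h1 : charDegree ((one1 G : IrrCharacter G) : G → ℂ) = 1 := by
      have := cast_deg (one1 G)
      rw [one1_apply] at this
      exact_mod_cast this.symm
    rw [h1, one1_apply]
    simp
  have hsum : ∑ χ ∈ NE, (ε χ : ℂ) * (χ : G → ℂ) y * δ χ - d * (Θ₀ : G → ℂ) y * δ Θ₀ = 0 := by
    have h1 : ∑ χ ∈ NE, (ε χ : ℂ) * (χ : G → ℂ) y * conj ((χ : G → ℂ) g) / (χ : G → ℂ) 1 =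
        ∑ χ ∈ NE, (ε χ : ℂ) * (χ : G → ℂ) y * δ χ + c * ∑ χ ∈ NE, (ε χ : ℂ) * (χ : G → ℂ) y := by
      rw [Finset.mul_sum, ← Finset.sum_add_distrib]
      refine Finset.sum_congr rfl fun χ _ => ?_
      rw [mul_div_assoc, key χ]
      ring
    have h2 : (d : ℂ) * (Θ₀ : G → ℂ) y * conj ((Θ₀ : G → ℂ) g) / (Θ₀ : G → ℂ) 1 =
        d * (Θ₀ : G → ℂ) y * δ Θ₀ + c * (d * (Θ₀ : G → ℂ) y) := by
      rw [mul_div_assoc, key Θ₀]
      ring
    rw [h1, h2, hreg] at hz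
    linear_combination hz
  rw [← Finset.add_sum_erase NE _ h.one_mem, h.one_eps, hone, one1_apply] at hsum
  have h1 : ((1 - c : ℝ) : ℂ) = -(∑ χ ∈ NE.erase (one1 G), (ε χ : ℂ) * (χ : G → ℂ) y * δ χ) +
      d * (Θ₀ : G → ℂ) y * δ Θ₀ := by
    push_cast
    push_cast at hsum
    linear_combination hsum
  have hnorm : ∀ a : ℤ, a = 1 ∨ a = -1 → ‖(a : ℂ)‖ = 1 := by
    rintro a (h | h) <;> rw [h] <;> simp
  have hΘ1 : (Θ₀ : G → ℂ) ≠ 1 := by
    intro h2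
    have h3 : Θ₀ = one1 G := Subtype.ext h2
    exact Finset.disjoint_left.1 h.disj h.one_mem (h3 ▸ h0)
  have h2 : ‖∑ χ ∈ NE.erase (one1 G), (ε χ : ℂ) * (χ : G → ℂ) y * δ χ‖ ≤ (e - 1) * k := by
    have h3 : ((e : ℝ) - 1) = ((NE.erase (one1 G)).card : ℝ) := by
      rw [Finset.card_erase_of_mem h.one_mem, h.cardNE, Nat.cast_sub, Nat.cast_one]
      rw [← h.cardNE]
      exact Finset.card_pos.2 ⟨_, h.one_mem⟩
    rw [h3, ← nsmul_eq_mul, ← Finset.sum_const]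
    refine (norm_sum_le _ _).trans (Finset.sum_le_sum fun χ hχ => ?_)
    have hχ' := Finset.mem_of_mem_erase hχ
    rw [norm_mul, norm_mul, hnorm _ (h.eps χ hχ'), one_mul]
    have h4 := hδk χ (coe_ne_one (Finset.ne_of_mem_erase hχ)) (h.ndvd χ (Or.inl hχ'))
    calc _ ≤ 1 * k := mul_le_mul (hy1 χ) h4 (norm_nonneg _) zero_le_one
      _ = k := one_mul k
  have h3 : ‖(d : ℂ) * (Θ₀ : G → ℂ) y * δ Θ₀‖ ≤ k := by
    rw [norm_mul, norm_mul, hnorm _ h.d_eps, one_mul]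
    have h4 := hδk Θ₀ hΘ1 (h.ndvd Θ₀ (Or.inr h0))
    calc _ ≤ 1 * k := mul_le_mul (hy1 Θ₀) h4 (norm_nonneg _) zero_le_one
      _ = k := one_mul k
  have h4 := congrArg norm h1
  rw [Complex.norm_real, Real.norm_eq_abs] at h4
  have h5 := norm_add_le (-(∑ χ ∈ NE.erase (one1 G), (ε χ : ℂ) * (χ : G → ℂ) y * δ χ))
    ((d : ℂ) * (Θ₀ : G → ℂ) y * δ Θ₀)
  rw [norm_neg] at h5
  have h6 := le_abs_self (1 - c)
  nlinarith

end Cfsg.Agent.H843.TCM
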